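import Groth.Agent.H83.AmpleGen.GammaHom
import Groth.Agent.H56.ExtVanish.Devissage
import Groth.Agent.Lib.ExtHH.Basic

/-!
# Hypercohomology through cohomology sheaves
-/

set_option autoImplicit false
set_option linter.style.haveILetI false
set_option linter.unusedSectionVars false

universe u

open CategoryTheory CategoryTheory.Limits CategoryTheory.Pretriangulated AlgebraicGeometry Opposite DerivedCategory

attribute [local instance] HasDerivedCategory.standard

namespace Groth.Agent.H56.FMKHyper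

open Groth.Agent.Lib Groth.Agent.Lib.DerivedOX Groth.Agent.H56.ExtVanish

variable {X : Scheme.{u}}

/-- `H^n RΓ(Z) = 0` if `Hom(𝒪[-n], Z) = 0`. -/
theorem isZero_RΓ_of_hom_eq_zero [DCoh.HasRΓ X] (Z : DCoh.D X) (n : ℤ)
    (h : ∀ φ : (singleFunctor X.Modules n).obj (Coh.structureModule X) ⟶ Z, φ = 0) :
    IsZero ((homologyFunctor AddCommGrpCat.{u} n).obj ((DCoh.RΓ X).obj Z)) := by
  obtain ⟨I, hI, ⟨e⟩⟩ := RightDerived.exists_resFunctor_obj_iso Z
  haveI := hI
  haveI := DerCat.HProd.isIso_counit Z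
  let eI : Q.obj I ≅ Z :=
    (quotientCompQhIso _).symm.app I ≪≫ Qh.mapIso e ≪≫
      asIso ((RightDerived.resAdj _).counit.app _)
  let q := (HomotopyCategory.quotient X.Modules (ComplexShape.up ℤ)).obj I
  haveI := RightDerived.isIso_totalRightDerivedUnit_app_of_isKInjective (DCoh.gammaKh X) I
  let G := ((DCoh.gammaAb X).mapHomologicalComplex (ComplexShape.up ℤ)).obj I
  let eG : Q.obj G ≅ (DCoh.RΓ X).obj Z :=
    ((quotientCompQhIso AddCommGrpCat.{u}).app G).symm ≪≫
      Qh.mapIso
        (((DCoh.gammaAb X).mapHomotopyCategoryFactors (ComplexShape.up ℤ)).app I).symm ≪≫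
      asIso (((DCoh.gammaKh X).totalRightDerivedUnit Qh
        (HomotopyCategory.quasiIso X.Modules (ComplexShape.up ℤ))).app q) ≪≫
      (DCoh.RΓ X).mapIso ((quotientCompQhIso X.Modules).app I ≪≫ eI)
  refine IsZero.of_iso ?_ ((homologyFunctor AddCommGrpCat.{u} n).mapIso eG.symm ≪≫
    (homologyFunctorFactors AddCommGrpCat.{u} n).app G)
  refine (HomologicalComplex.exactAt_iff_isZero_homology _ _).1
    ((HomologicalComplex.exactAt_iff' G (n - 1) n (n + 1) (by simp) (by simp)).2
      ((ShortComplex.ab_exact_iff _).2 fun x hx => ?_))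
  let O := Coh.structureModule X
  let a : O ⟶ I.X n := (ParaF.ResBij.homUnitEquivTop _).symm x
  have ha : a ≫ I.d n (n + 1) = 0 := by
    apply (ParaF.ResBij.homUnitEquivTop (I.X (n + 1))).injective
    refine (ParaF.ResBij.homUnitEquivTop_comp a _).trans ?_
    refine (congrArg (fun z => (I.d n (n + 1)).app ⊤ z) (Equiv.apply_symm_apply _ x)).trans ?_
    exact hx.trans rfl
  let f := HomologicalComplex.mkHomFromSingle (K := I) (j := n) a (fun k hk => by
    obtain rfl : n + 1 = k := hk
    exact ha)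
  have hQ : Q.map f = 0 := by
    have h0 := h ((singleFunctorIsoCompQ X.Modules n).hom.app O ≫ Q.map f ≫ eI.hom)
    have h1 := (cancel_epi ((singleFunctorIsoCompQ X.Modules n).hom.app O)).1 (h0.trans comp_zero.symm)
    exact (cancel_mono eI.hom).1 (h1.trans zero_comp.symm)
  have hf0 : (HomotopyCategory.quotient X.Modules (ComplexShape.up ℤ)).map f = 0 := by
    apply (CochainComplex.IsKInjective.Qh_map_bijective _ I).injective
    rw [Functor.map_zero]
    apply (cancel_epi ((quotientCompQhIso X.Modules).inv.app _)).1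
    have := (quotientCompQhIso X.Modules).inv.naturality f
    rw [hQ, zero_comp] at this
    rw [comp_zero]
    exact this.symm
  obtain ⟨hh⟩ : Nonempty (Homotopy f 0) :=
    ⟨HomotopyCategory.homotopyOfEq f 0 (hf0.trans (Functor.map_zero _ _ _).symm)⟩
  have hc := hh.comm n
  rw [dNext_eq hh.hom (show (ComplexShape.up ℤ).Rel n (n + 1) by simp),
    prevD_eq hh.hom (show (ComplexShape.up ℤ).Rel (n - 1) n by simp),
    HomologicalComplex.single_obj_d, zero_comp, zero_add, HomologicalComplex.zero_f, add_zero] at hc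
  let g : O ⟶ I.X (n - 1) :=
    (HomologicalComplex.singleObjXSelf (ComplexShape.up ℤ) n O).inv ≫ hh.hom n (n - 1)
  have hg : g ≫ I.d (n - 1) n = a := by
    simp only [g, Category.assoc]
    rw [← hc]
    simp [f]
  refine ⟨ParaF.ResBij.homUnitEquivTop _ g, ?_⟩
  exact ((ParaF.ResBij.homUnitEquivTop_comp g (I.d (n - 1) n)).symm.trans
    (congrArg (ParaF.ResBij.homUnitEquivTop _) hg)).trans (Equiv.apply_symm_apply _ x)

/-- `H^n RΓ(Z) = 0` gives `Hom(𝒪[-n], Z) = 0`. -/
theorem hom_eq_zero_of_isZero_RΓ [DCoh.HasRΓ X] (Z : DCoh.D X) (n : ℤ)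
    (h : IsZero ((homologyFunctor AddCommGrpCat.{u} n).obj ((DCoh.RΓ X).obj Z)))
    (φ : (singleFunctor X.Modules n).obj (Coh.structureModule X) ⟶ Z) : φ = 0 := by
  let e := ((singleFunctors X.Modules).shiftIso (-n) n 0 (by omega)).app (Coh.structureModule X)
  have h0 := H83.AmpleGen.eq_zero_of_isZero_RΓ Z (-n) (by rwa [neg_neg]) (e.hom ≫ φ)
  exact (cancel_epi e.hom).1 (h0.trans comp_zero.symm)

/-- Dévissage along the cohomology objects, degree by degree. -/
theorem eq_zero_of_homology (K : DCoh.D X) : ∀ (n : ℕ) (L : DCoh.D X) (c : ℤ),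
    L.IsGE c → L.IsLE (c + n - 1) →
    (∀ j, c ≤ j → j < c + n → ∀ φ : K ⟶ (singleFunctor X.Modules j).obj (DCoh.HD L j), φ = 0) →
    ∀ φ : K ⟶ L, φ = 0 := by
  intro n
  induction n with
  | zero =>
    intro L c hge hle _ φ
    have h1 : TStructure.t.IsGE L c := hge
    have h2 : TStructure.t.IsLE L (c + (0 : ℕ) - 1) := hle
    exact (TStructure.t.isZero L (c + (0 : ℕ) - 1) c (by lia)).eq_of_tgt _ _
  | succ n ih =>
    intro L c hge hle h φ
    have h1 : TStructure.t.IsGE L c := hge
    have h2 : TStructure.t.IsLE L (c + (n + 1 : ℕ) - 1) := hle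
    have hT := TStructure.t.triangleLTGE_distinguished (c + 1) L
    let T := (TStructure.t.truncGE (c + 1)).obj L
    have hT2 : TStructure.t.IsLE T (c + 1 + n - 1) := by
      have : TStructure.t.IsLE T (c + (n + 1 : ℕ) - 1) := inferInstance
      exact TStructure.t.isLE_of_le T (c + (n + 1 : ℕ) - 1) _ (by lia)
    have h0 := ih T (c + 1) (inferInstance : TStructure.t.IsGE T (c + 1)) hT2 (fun j hj hj' χ => by
      let e := @asIso _ _ _ _ _ (@DerCat.TStruct.isIso_homologyMap_mor₂ _ _ _ _ _
        (TStructure.t.triangleLTGE_distinguished (c + 1) L) c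
        (TStructure.t.isLE_truncLT_obj L (c + 1) c (by lia)) j (by lia))
      have := h j (by lia) (by lia) (χ ≫ ((singleFunctor X.Modules j).mapIso e).inv)
      exact (cancel_mono ((singleFunctor X.Modules j).mapIso e).inv).1 (this.trans zero_comp.symm))
      (φ ≫ (TStructure.t.truncGEπ (c + 1)).app L)
    obtain ⟨ψ, hψ⟩ := Triangle.coyoneda_exact₂ _ hT φ h0
    let W := (TStructure.t.truncLT (c + 1)).obj L
    haveI : W.IsGE c := (inferInstance : TStructure.t.IsGE W c)
    haveI : W.IsLE c := TStructure.t.isLE_truncLT_obj L (c + 1) c (by lia)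
    obtain ⟨N, ⟨e⟩⟩ := exists_iso_singleFunctor_obj_of_isGE_of_isLE W c
    let eN : N ≅ DCoh.HD L c :=
      ((singleFunctorCompHomologyFunctorIso X.Modules c).app N).symm ≪≫
        (homologyFunctor X.Modules c).mapIso e.symm ≪≫
        @asIso _ _ _ _ _ (@DerCat.TStruct.isIso_homologyMap_mor₁ _ _ _ _ _
          (TStructure.t.triangleLTGE_distinguished (c + 1) L) (c + 1)
          (inferInstance : TStructure.t.IsGE T (c + 1)) c (by lia))
    let e' := e ≪≫ (singleFunctor X.Modules c).mapIso eN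
    have h3 := h c le_rfl (by lia) (ψ ≫ e'.hom)
    have hψ0 : ψ = 0 := (cancel_mono e'.hom).1 (h3.trans zero_comp.symm)
    rw [hψ, hψ0]
    exact zero_comp

/-- `Ext^m(𝒪, M) = 0` if `H^m(M) = 0`. -/
theorem subsingleton_ext_structureModule (M : X.Modules) (m : ℕ) (h : Subsingleton (Coh.HH X M m)) :
    Subsingleton (Abelian.Ext.{u} (Coh.structureModule X) M m) :=
  haveI : Subsingleton (Coh.HH X ((𝟭 X.Modules).obj M) m) := h
  (ExtHH.Basic.extHH_bijective (𝟭 X.Modules) (𝟙 (Coh.structureModule X))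
    (fun _ => ⟨fun f g h => ((Category.id_comp f).symm.trans h).trans (Category.id_comp g),
      fun g => ⟨g, Category.id_comp g⟩⟩) (fun _ hI => hI) M m).injective.subsingleton

/-- Hypercohomology vanishes when all the cohomology of the cohomology sheaves does. -/
theorem isZero_RΓ_of_homology [DCoh.HasRΓ X] (Z : DCoh.D X) (lo hi : ℤ) (hlo : Z.IsGE lo) (hhi : Z.IsLE hi)
    (n : ℤ) (h : ∀ (j : ℤ) (p : ℕ), lo ≤ j → (p : ℤ) + j = n → Subsingleton (Coh.HH X (DCoh.HD Z j) p)) :
    IsZero ((homologyFunctor AddCommGrpCat.{u} n).obj ((DCoh.RΓ X).obj Z)) := by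
  refine isZero_RΓ_of_hom_eq_zero Z n (eq_zero_of_homology _ (hi + 1 - lo).toNat Z lo hlo ?_ ?_)
  · have h2 : TStructure.t.IsLE Z hi := hhi
    exact TStructure.t.isLE_of_le Z hi _ (by lia)
  · intro j hj _ φ
    rcases lt_or_ge n j with hnj | hnj
    · exact TStructure.t.zero φ n j hnj
    · exact eq_zero_single (n - j).toNat (by omega)
        (subsingleton_ext_structureModule _ _ (h j _ hj (by omega))) φ

end Groth.Agent.H56.FMKHyper
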