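import Groth.Agent.Lib.DerivedOX.FlatTensor
import Groth.Agent.Lib.DerivedOX.SingleTensor
import Groth.Agent.Lib.DerivedOX.QCohLocal
import Groth.Agent.Lib.DerivedOX.TensorSymm
import Groth.Agent.Lib.DerivedOX.LeftExists
import Groth.Agent.Lib.DR.ExactPush
import Groth.Agent.Lib.Modules.SupportOps
import Groth.Agent.Lib.TensorMod.FPConv
import Groth.Agent.Lib.Perfect.Regular

/-!
# Tensor product with a locally free module in degree zero
-/

set_option autoImplicit false
set_option linter.style.haveILetI false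
set_option linter.unusedSectionVars false

universe u

open CategoryTheory CategoryTheory.Limits AlgebraicGeometry DerivedCategory

attribute [local instance] HasDerivedCategory.standard

namespace Groth.Agent.H56.FMKHyper

open Groth.Agent.Lib Groth.Agent.Lib.DerivedOX

variable {Y : Scheme.{u}}

/-- `N` as a complex in degree zero. -/
noncomputable abbrev cx (N : Y.Modules) : CochainComplex Y.Modules ℤ :=
  (CochainComplex.singleFunctor Y.Modules 0).obj N

/-- The class of that complex is `N`. -/
noncomputable def cxIso (N : Y.Modules) : DCoh.toD Y (cx N) ≅ DCoh.inD Y N :=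
  ((singleFunctorIsoCompQ Y.Modules 0).app N).symm

theorem isPerfect_cx {N : Y.Modules} (hN : FlatMod.IsFinLocFree N) : DCoh.IsPerfect (DCoh.toD Y (cx N)) :=
  Perfect.Triangle.isPerfect_of_iso (cxIso N).symm
    ((Perfect.Triangle.isPerfect_iff _).2 fun x => Perfect.Regular.perfAt_inD hN x)

/-- The bounds and cohomology sheaves of `G ⊗^L N`. -/
theorem exists_LTensor (N : Y.Modules) (hN : FlatMod.IsFinLocFree N) [DCoh.HasLTensorCx (cx N)] (G : DCoh.D Y) :
    (∀ a : ℤ, G.IsGE a → ((DCoh.LTensorCx (cx N)).obj G).IsGE a) ∧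
    (∀ a : ℤ, G.IsLE a → ((DCoh.LTensorCx (cx N)).obj G).IsLE a) ∧
    ∀ j : ℤ, Nonempty (DCoh.HD ((DCoh.LTensorCx (cx N)).obj G) j ≅ CohB1.tensorMod N (DCoh.HD G j)) := by
  let T := (DCoh.tensorBi (X := Y)).obj N
  haveI : PreservesFiniteLimits T :=
    FlatTensor.preservesFiniteLimits_tensorLeft_of_isFlat (TensorMod.FPConv.isFlat_of_isFinLocFree hN)
  haveI : PreservesFiniteColimits T := by
    infer_instance
  obtain ⟨P, hP, ⟨eP⟩⟩ := QCohLocal.exists_kflat G
  obtain ⟨t⟩ := QCohLocal.nonempty_LTensorCx_iso (cx N) hP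
  let e : (DCoh.LTensorCx (cx N)).obj G ≅ T.mapDerivedCategory.obj G :=
    (DCoh.LTensorCx (cx N)).mapIso eP.symm ≪≫ t ≪≫
      Q.mapIso (TensorSymm.commCx P (cx N) ≪≫
        ((SingleTensor.singleZeroIso (DCoh.tensorBi (X := Y)) N).app P).symm) ≪≫
      (DR.ExactPush.mapQ T P).symm ≪≫ T.mapDerivedCategory.mapIso eP
  refine ⟨fun a ha => ?_, fun a ha => ?_, fun j => ⟨?_⟩⟩
  · have h : TStructure.t.IsGE (T.mapDerivedCategory.obj G) a := DR.ExactPush.isGE_map T ha
    exact TStructure.t.isGE_of_iso e.symm a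
  · have h : TStructure.t.IsLE (T.mapDerivedCategory.obj G) a := DR.ExactPush.isLE_map T ha
    exact TStructure.t.isLE_of_iso e.symm a
  · exact (homologyFunctor Y.Modules j).mapIso (e ≪≫ T.mapDerivedCategory.mapIso eP.symm ≪≫
        DR.ExactPush.mapQ T P) ≪≫
      (homologyFunctorFactors Y.Modules j).app _ ≪≫
      (P.sc j).mapHomologyIso T ≪≫
      T.mapIso (((homologyFunctorFactors Y.Modules j).app P).symm ≪≫ (homologyFunctor Y.Modules j).mapIso eP)

/-- The support of a tensor product lies in the support of either factor. -/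
theorem support_tensorMod_subset (N M : Y.Modules) :
    CohB1.support (CohB1.tensorMod N M) ⊆ CohB1.support M := by
  intro x hx
  by_contra h
  haveI := not_not.1 h
  exact hx (DerivedOX.TensorSheaf.tensorStalk x N M).toEquiv.subsingleton

end Groth.Agent.H56.FMKHyper
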