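import Groth.Agent.H56.FMKHyper.Basic
import Groth.Agent.H56.FMKHyper.Tensor
import Groth.Agent.H56.ExtVanish.Main
import Groth.Agent.Lib.Ample.GG
import Groth.Agent.Lib.Ample.Pullback
import Groth.Agent.Lib.Perfect.Pullback
import Groth.Agent.Lib.Perfect.Tensor
import Groth.Agent.Lib.Perfect.Coherent
import Groth.Agent.Lib.TensorMod.Invertible
import Groth.Agent.S0051
import Groth.Agent.S1001
import Groth.Agent.S16375

/-!
# Hypercohomology criteria
-/

set_option autoImplicit false
set_option linter.style.haveILetI false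
set_option linter.unusedSectionVars false

universe u

open CategoryTheory CategoryTheory.Limits CategoryTheory.Pretriangulated AlgebraicGeometry TopologicalSpace DerivedCategory

attribute [local instance] HasDerivedCategory.standard

namespace Groth.Agent.H56.FMKHyper

open Groth.Agent.Lib Groth.Agent.Lib.DerivedOX Groth.Agent.Lib.GrothVan

variable {Y : Scheme.{u}}

/-- Vanishing above the dimension bound given by the coheights of the support. -/
theorem subsingleton_HH_of_coheight [NoetherianSpace Y] {g m : ℕ} (hg : topologicalKrullDim Y ≤ g)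
    (M : Y.Modules) (hM : ∀ y ∈ CohB1.support M, (m : WithBot ℕ∞) ≤ ringKrullDim (Y.presheaf.stalk y))
    (p : ℕ) (hp : g < p + m) : Subsingleton (Coh.HH Y M p) := by
  by_cases hm : g < m
  · refine H56.ExtVanish.subsingleton_HH_of_isZero ?_ p
    refine Modules.Support.support_eq_empty_iff.1 (Set.eq_empty_iff_forall_notMem.2 fun y hy => ?_)
    have := ((hM y hy).trans (H56.ExtVanish.ringKrullDim_stalk_le_top y)).trans hg
    rw [Nat.cast_le] at this
    omega
  refine subsingleton_H_of_sob (Coh.toAb M) p (vanish (R := sobRank (TopCat.of Y) g hg) (g - m + 1) _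
    (fun z hz => ?_) p (by omega) (Or.inr (by omega)))
  let Z : SobPt (TopCat.of Y) := z
  let η : Y := Z.val.isIrreducible.genericPoint
  have hZ : (Z.val : Set Y) = closure {η} := by
    rw [Z.val.isIrreducible.genericPoint_closure_eq]
    exact Z.val.isClosed.closure_eq.symm
  have hη : η ∉ CohB1.support M := by
    intro h
    letI : Preorder Y := specializationPreorder _
    have h1 := hM η h
    rw [ringKrullDim_stalk_eq_coheight] at h1
    have h2 : ((Order.height η + Order.coheight η : ℕ∞) : WithBot ℕ∞) ≤ (g : WithBot ℕ∞) := by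
      refine le_trans ?_ ((Order.krullDim_eq_of_orderIso (irreducibleSetEquivPoints (α := Y))).symm.trans_le hg)
      haveI : Nonempty Y := ⟨η⟩
      rw [Order.krullDim_eq_iSup_height_add_coheight_of_nonempty]
      exact WithBot.coe_le_coe.2 (le_iSup (fun a : Y => Order.height a + Order.coheight a) η)
    have h3 : Order.height Z.val = Order.height η :=
      (Order.height_orderIso (irreducibleSetEquivPoints (α := Y)) Z.val).symm
    have h4 : g - m + 1 ≤ (Order.height Z.val).toNat := hz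
    rw [h3] at h4
    have h5 : Order.height η + (m : ℕ∞) ≤ (g : ℕ∞) :=
      (add_le_add le_rfl (by exact_mod_cast h1)).trans (by exact_mod_cast h2)
    have h6 : Order.height η ≠ ⊤ := fun h => by rw [h, top_add] at h5; simp at h5
    obtain ⟨a, ha⟩ := ENat.ne_top_iff_exists.1 h6
    rw [← ha] at h4 h5
    simp only [ENat.toNat_natCast] at h4
    have h7 : a + m ≤ g := by exact_mod_cast h5
    omega
  refine @AddCommGrpCat.isZero_of_subsingleton _ (subsingleton_of_forall_eq 0 fun v => ?_)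
  obtain ⟨U', hzU', s, rfl⟩ :=
    TopCat.Presheaf.exists_germ_eq ((CohTop.push (quot (TopCat.of Y))).obj (Coh.toAb M)).obj v
  have hsη : η ∈ (Opens.map (quot (TopCat.of Y))).obj U' := by
    obtain ⟨U, hU⟩ := U'.2
    have hU' : (U' : Set (Sob (TopCat.of Y))) = SobPt.opn U := hU
    change z ∈ (U' : Set (Sob (TopCat.of Y))) at hzU'
    rw [hU'] at hzU'
    change quot (TopCat.of Y) η ∈ (U' : Set (Sob (TopCat.of Y)))
    rw [hU']
    refine mem_preimage_quot.2 ?_
    obtain ⟨y, hy, hyU⟩ := hzU'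
    exact (specializes_iff_mem_closure.2 (hZ ▸ hy : y ∈ closure {η})).mem_open U.2 hyU
  obtain ⟨V, hηV, iV, iV', hVeq⟩ := TopCat.Presheaf.germ_eq (Coh.toAb M).obj η hsη hsη s 0
    ((Modules.Support.germ_eq_zero_of_not_mem_support (M := M) hsη hη s).trans (map_zero _).symm)
  have hzV : z ∈ (⟨SobPt.opn V, SobPt.isOpen_opn V⟩ : Opens (Sob (TopCat.of Y))) :=
    ⟨η, hZ ▸ subset_closure rfl, hηV⟩
  have hle : (⟨SobPt.opn V, SobPt.isOpen_opn V⟩ : Opens (Sob (TopCat.of Y))) ≤ U' := fun w hw => by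
    obtain ⟨U, hU⟩ := U'.2
    have hU' : (U' : Set (Sob (TopCat.of Y))) = SobPt.opn U := hU
    change w ∈ (U' : Set (Sob (TopCat.of Y)))
    rw [hU']
    obtain ⟨x, hx, hxV⟩ := hw
    refine ⟨x, hx, mem_preimage_quot.1 ?_⟩
    have := iV.le hxV
    change quot (TopCat.of Y) x ∈ (U' : Set (Sob (TopCat.of Y))) at this
    rwa [hU'] at this
  rw [← TopCat.Presheaf.germ_res_apply ((CohTop.push (quot (TopCat.of Y))).obj (Coh.toAb M)).obj
    (homOfLE hle) z hzV s]
  refine (congrArg _ ?_).trans (map_zero _)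
  refine TopCat.Presheaf.section_ext (Coh.toAb M) _ _ 0 fun x hx => ?_
  have hxV : x ∈ V := (mem_preimage_quot.1 hx)
  refine Eq.trans ?_ (map_zero _).symm
  refine (TopCat.Presheaf.germ_res_apply (Coh.toAb M).obj
    ((Opens.map (quot (TopCat.of Y))).map (homOfLE hle)) x hx s).trans ?_
  refine (TopCat.Presheaf.germ_res_apply (Coh.toAb M).obj iV x hxV s).symm.trans ?_
  rw [hVeq, map_zero, map_zero]

/-- Cohomology vanishing transports along isomorphisms. -/
theorem subsingleton_HH_congr {M M' : Y.Modules} (e : M ≅ M') (p : ℕ) (h : Subsingleton (Coh.HH Y M p)) :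
    Subsingleton (Coh.HH Y M' p) :=
  haveI : Subsingleton ((CategoryTheory.Abelian.extFunctorObj.{u}
      ((constantSheaf (Opens.grothendieckTopology ↥Y) AddCommGrpCat.{u}).obj
        (AddCommGrpCat.of (ULift.{u} ℤ))) p).obj ((SheafOfModules.toSheaf Y.ringCatSheaf).obj M)) := h
  ((CategoryTheory.Abelian.extFunctorObj.{u} _ p).mapIso
    ((SheafOfModules.toSheaf Y.ringCatSheaf).mapIso e)).addCommGroupIsoToAddEquiv.symm.toEquiv.subsingleton

/-- Hypercohomology vanishing from the codimensions of the supports. -/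
theorem isZero_RΓ_of_gvk [NoetherianSpace Y] [DCoh.HasRΓ Y] {g k' : ℕ} (hg : topologicalKrullDim Y ≤ g)
    (G : DCoh.D Y) (hneg : ∀ i : ℤ, i < 0 → IsZero (DCoh.HD G i))
    (hcodim : ∀ (i : ℕ) (y : Y), y ∈ CohB1.support (DCoh.HD G (i : ℤ)) →
      ((i - k' : ℕ) : WithBot ℕ∞) ≤ ringKrullDim (Y.presheaf.stalk y))
    (N : Y.Modules) (hN : FlatMod.IsFinLocFree N) [DCoh.HasLTensorCx (cx N)] (i : ℤ)
    (hi : i < 0 ∨ (g : ℤ) + k' < i) :
    IsZero ((homologyFunctor AddCommGrpCat.{u} i).obj ((DCoh.RΓ Y).obj ((DCoh.LTensorCx (cx N)).obj G))) := by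
  obtain ⟨hge, hle, hH⟩ := exists_LTensor N hN G
  have hlo : G.IsGE 0 := (isGE_iff G 0).2 hneg
  have hhi : G.IsLE (g + k') := by
    refine (isLE_iff G _).2 fun j hj => ?_
    obtain ⟨m, rfl⟩ := Int.eq_ofNat_of_zero_le (show 0 ≤ j by omega)
    refine Modules.Support.support_eq_empty_iff.1 (Set.eq_empty_iff_forall_notMem.2 fun y hy => ?_)
    have := ((hcodim m y hy).trans (H56.ExtVanish.ringKrullDim_stalk_le_top y)).trans hg
    rw [Nat.cast_le] at this
    omega
  refine isZero_RΓ_of_homology _ 0 (g + k') (hge 0 hlo) (hle _ hhi) i fun j p hj hp => ?_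
  obtain ⟨m, rfl⟩ := Int.eq_ofNat_of_zero_le hj
  obtain ⟨e⟩ := hH (m : ℤ)
  refine subsingleton_HH_of_coheight (m := m - k') hg _ (fun y hy => ?_) p (by omega)
  rw [Modules.Support.support_congr e] at hy
  exact hcodim m y (support_tensorMod_subset N _ hy)

/-- For large twists, a cohomology sheaf vanishes iff the hypercohomology of the twists does. -/
theorem exists_bound_iff {k : Type u} [Field k] (b : Y ⟶ Spec (CommRingCat.of k)) [IsProper b] [DCoh.HasRΓ Y]
    {L : Y.Modules} (hL : CohB1.IsAmple L) (G : DCoh.D Y) (lo hi : ℤ) (hlo : G.IsGE lo) (hhi : G.IsLE hi)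
    (hG : DCoh.IsCohD G) [∀ n : ℕ, DCoh.HasLTensorCx (cx (CohB1.tensorPow L n))] :
    ∃ n₀ : ℕ, ∀ n : ℕ, n₀ ≤ n → ∀ i : ℤ, (IsZero (DCoh.HD G i) ↔
      IsZero ((homologyFunctor AddCommGrpCat.{u} i).obj
        ((DCoh.RΓ Y).obj ((DCoh.LTensorCx (cx (CohB1.tensorPow L n))).obj G)))) := by
  haveI := Ample.Pullback.quasiSeparatedSpace_of_isAmple hL
  have hvan : ∀ j : ℤ, ∃ n₀ : ℕ, ∀ n, n₀ ≤ n →
      (∀ p : ℕ, 0 < p → Subsingleton (Coh.HH Y (CohB1.tensorMod (CohB1.tensorPow L n) (DCoh.HD G j)) p)) ∧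
      Curv2.IsGloballyGenerated (CohB1.tensorMod (DCoh.HD G j) (CohB1.tensorPow L n)) := fun j => by
    obtain ⟨n₁, h₁⟩ := (Groth.Agent.S0051.result k Y b L hL.1).1 hL (DCoh.HD G j) (hG j)
    obtain ⟨n₂, h₂⟩ := Ample.GG.eventually_genAt_twist hL (DCoh.HD G j) (hG j)
    refine ⟨max n₁ n₂, fun n hn => ⟨fun p hp => ?_,
      Ample.GG.isGloballyGenerated_of_genAt (h₂ n (le_trans (le_max_right _ _) hn))⟩⟩
    exact subsingleton_HH_congr (TensorMod.Basic.comm (CohB1.tensorPow L n) (DCoh.HD G j)).symm p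
      (h₁ n (le_trans (le_max_left _ _) hn) p hp)
  choose c hc using hvan
  refine ⟨(Finset.Icc lo hi).sup c, fun n hn i => ?_⟩
  let N := CohB1.tensorPow L n
  have hN : FlatMod.IsFinLocFree N := TensorMod.LocFree.of_rank
    (TensorMod.LocFree.of_isInvertible (TensorMod.Invertible.isInvertible_tensorPow hL.1 n))
  obtain ⟨hge, hle, hH⟩ := exists_LTensor N hN G
  let Z := (DCoh.LTensorCx (cx N)).obj G
  have hZp : ∀ (j : ℤ) (p : ℕ), lo ≤ j → j ≤ hi → 0 < p → Subsingleton (Coh.HH Y (DCoh.HD Z j) p) := by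
    intro j p h1 h2 hp
    obtain ⟨e⟩ := hH j
    exact subsingleton_HH_congr e.symm p ((hc j n ((Finset.le_sup (Finset.mem_Icc.2 ⟨h1, h2⟩)).trans hn)).1 p hp)
  constructor
  · intro hz
    refine isZero_RΓ_of_homology Z lo hi (hge lo hlo) (hle hi hhi) i fun j p hj hp => ?_
    by_cases hjhi : j ≤ hi
    swap
    · exact H56.ExtVanish.subsingleton_HH_of_isZero
        (@isZero_of_isLE _ _ _ _ _ hi j (by omega) (hle hi hhi)) p
    rcases Nat.eq_zero_or_pos p with rfl | hp'
    · obtain ⟨e⟩ := hH j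
      obtain rfl : j = i := by simpa using hp
      exact H56.ExtVanish.subsingleton_HH_of_isZero
        ((((DCoh.tensorBi (X := Y)).obj N).map_isZero hz).of_iso e) 0
    · exact hZp j p hj hjhi hp'
  · intro hz
    by_cases hi' : lo ≤ i ∧ i ≤ hi
    swap
    · rcases not_and_or.1 hi' with h | h
      · exact @isZero_of_isGE _ _ _ _ _ lo i (by omega) hlo
      · exact @isZero_of_isLE _ _ _ _ _ hi i (by omega) hhi
    let O := Coh.structureModule Y
    let T := (TStructure.t.truncLT (i + 1)).obj Z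
    have h0 : ∀ ψ : (singleFunctor Y.Modules i).obj O ⟶ T, ψ = 0 := fun ψ => by
      have h := hom_eq_zero_of_isZero_RΓ Z i hz (ψ ≫ (TStructure.t.truncLTι (i + 1)).app Z)
      obtain ⟨χ, hχ⟩ := Triangle.coyoneda_exact₂ _
        (inv_rot_of_distTriang _ (TStructure.t.triangleLTGE_distinguished (i + 1) Z)) ψ h
      haveI : TStructure.t.IsGE ((TStructure.t.triangleLTGE (i + 1)).obj Z).invRotate.obj₁ (i + 2) :=
        TStructure.t.isGE_shift ((TStructure.t.truncGE (i + 1)).obj Z) (i + 1) (-1) (i + 2) (by lia)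
      rw [hχ, show χ = 0 from TStructure.t.zero χ i (i + 2) (by lia)]
      exact zero_comp
    have h1 : ∀ φ : (singleFunctor Y.Modules i).obj O ⟶ (TStructure.t.truncGE i).obj T, φ = 0 := fun φ => by
      let B := (TStructure.t.truncLT i).obj T
      have hB1 : TStructure.t.IsGE Z lo := hge lo hlo
      have hobs : ∀ χ : (singleFunctor Y.Modules i).obj O ⟶ B⟦(1 : ℤ)⟧, χ = 0 := by
        refine eq_zero_of_homology _ (i - lo).toNat (B⟦(1 : ℤ)⟧) (lo - 1) ?_ ?_ fun j hj hj' χ => ?_
        · have : TStructure.t.IsGE B lo := inferInstance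
          exact TStructure.t.isGE_shift B lo 1 (lo - 1)
        · have : TStructure.t.IsLE B (i - 1) := inferInstance
          have h := TStructure.t.isLE_shift B (i - 1) 1 (i - 2)
          exact @Triangulated.TStructure.isLE_of_le _ _ _ _ _ _ _ TStructure.t _ (i - 2) _ (by omega) h
        · let e : DCoh.HD (B⟦(1 : ℤ)⟧) j ≅ DCoh.HD Z (j + 1) :=
            ((homologyFunctor Y.Modules 0).shiftIso 1 j (j + 1) (by lia)).app B ≪≫
              @asIso _ _ _ _ _ (@DerCat.TStruct.isIso_homologyMap_mor₁ _ _ _ _ _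
                (TStructure.t.triangleLTGE_distinguished i T) i
                (inferInstance : TStructure.t.IsGE ((TStructure.t.truncGE i).obj T) i) (j + 1) (by lia)) ≪≫
              @asIso _ _ _ _ _ (@DerCat.TStruct.isIso_homologyMap_mor₁ _ _ _ _ _
                (TStructure.t.triangleLTGE_distinguished (i + 1) Z) (i + 1)
                (inferInstance : TStructure.t.IsGE ((TStructure.t.truncGE (i + 1)).obj Z) (i + 1)) (j + 1) (by lia))
          haveI := hZp (j + 1) (i - j).toNat (by omega) (by omega) (by omega)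
          have h := H56.ExtVanish.eq_zero_single (i - j).toNat (by omega)
            (subsingleton_ext_structureModule (DCoh.HD Z (j + 1)) (i - j).toNat this)
            (χ ≫ ((singleFunctor Y.Modules j).mapIso e).hom)
          exact (cancel_mono ((singleFunctor Y.Modules j).mapIso e).hom).1 (h.trans zero_comp.symm)
      obtain ⟨ψ, hψ⟩ := Triangle.coyoneda_exact₃ _ (TStructure.t.triangleLTGE_distinguished i T) φ (hobs _)
      rw [hψ, h0 ψ]
      exact zero_comp
    haveI : TStructure.t.IsLE ((TStructure.t.truncGE i).obj T) i := by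
      haveI := TStructure.t.isLE_truncLT_obj Z (i + 1) i (by lia)
      infer_instance
    obtain ⟨M, ⟨eM⟩⟩ := @exists_iso_singleFunctor_obj_of_isGE_of_isLE _ _ _ _
      ((TStructure.t.truncGE i).obj T) i (inferInstance : TStructure.t.IsGE _ i)
      (inferInstance : TStructure.t.IsLE ((TStructure.t.truncGE i).obj T) i)
    obtain ⟨e⟩ := hH i
    let eC : M ≅ CohB1.tensorMod (DCoh.HD G i) N :=
      ((singleFunctorCompHomologyFunctorIso Y.Modules i).app M).symm ≪≫
        (homologyFunctor Y.Modules i).mapIso eM.symm ≪≫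
        (@asIso _ _ _ _ _ (@DerCat.TStruct.isIso_homologyMap_mor₂ _ _ _ _ _
          (TStructure.t.triangleLTGE_distinguished i T) (i - 1)
          (inferInstance : TStructure.t.IsLE ((TStructure.t.truncLT i).obj T) (i - 1)) i (by lia))).symm ≪≫
        @asIso _ _ _ _ _ (@DerCat.TStruct.isIso_homologyMap_mor₁ _ _ _ _ _
          (TStructure.t.triangleLTGE_distinguished (i + 1) Z) (i + 1)
          (inferInstance : TStructure.t.IsGE ((TStructure.t.truncGE (i + 1)).obj Z) (i + 1)) i (by lia)) ≪≫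
        e ≪≫ TensorMod.Basic.comm N (DCoh.HD G i)
    have hO : ∀ f : O ⟶ CohB1.tensorMod (DCoh.HD G i) N, f = 0 := fun f => by
      let e' := eM ≪≫ (singleFunctor Y.Modules i).mapIso eC
      have h := h1 ((singleFunctor Y.Modules i).map f ≫ e'.inv)
      have h' := (cancel_mono e'.inv).1 (h.trans zero_comp.symm)
      exact (singleFunctor Y.Modules i).map_injective (h'.trans (Functor.map_zero _ _ _).symm)
    obtain ⟨ι, p, hp⟩ := (hc i n ((Finset.le_sup (Finset.mem_Icc.2 hi')).trans hn)).2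
    haveI := hp
    have hp0 : p = 0 := Sigma.hom_ext _ _ fun a => (hO _).trans comp_zero.symm
    have hz' : IsZero (CohB1.tensorMod (DCoh.HD G i) N) := by
      rw [IsZero.iff_id_eq_zero]
      exact (@cancel_epi _ _ _ _ _ p hp _ _).1 (by rw [hp0, zero_comp, zero_comp])
    refine Modules.Support.support_eq_empty_iff.1 ?_
    rw [← Snapper.Twist.support_twist (TensorMod.Invertible.isInvertible_tensorPow hL.1 n) (DCoh.HD G i)]
    exact Modules.Support.support_eq_empty_iff.2
      (hz'.of_iso (TensorMod.Basic.comm (CohB1.tensorPow L n) (DCoh.HD G i)))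

/-- `Φ_P F` is bounded with coherent cohomology. -/
theorem bounded_coherent_phi {k : Type u} [Field k] {X : Scheme.{u}} (a : X ⟶ Spec (CommRingCat.of k))
    (b : Y ⟶ Spec (CommRingCat.of k)) [IsProper a] [IsProper b]
    (P : CochainComplex (pullback a b).Modules ℤ) (hP : DCoh.IsPerfect (DCoh.toD (pullback a b) P))
    [DCoh.HasLpull (pullback.fst a b)] [DCoh.HasLTensorCx P] [DCoh.HasRpush (pullback.snd a b)]
    (F : DCoh.D X) (hF : DCoh.IsPerfect F) :
    ∃ lo hi : ℤ, ((FMK.phi a b P).obj F).IsGE lo ∧ ((FMK.phi a b P).obj F).IsLE hi ∧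
      DCoh.IsCohD ((FMK.phi a b P).obj F) := by
  haveI := LocallyOfFiniteType.isLocallyNoetherian b
  haveI : CompactSpace Y := QuasiCompact.compactSpace_of_compactSpace b
  haveI : IsNoetherian Y := ⟨⟩
  haveI := LocallyOfFiniteType.isLocallyNoetherian (pullback.snd a b)
  haveI : CompactSpace ↥(pullback a b) := QuasiCompact.compactSpace_of_compactSpace (pullback.snd a b)
  obtain ⟨K, hK, ⟨eK⟩⟩ := QCohLocal.exists_kflat ((DCoh.Lpull (pullback.fst a b)).obj F)
  obtain ⟨P₀, hP₀, ⟨eP⟩⟩ := QCohLocal.exists_kflat (DerivedCategory.Q.obj P)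
  haveI := LeftExists.hasLTensorCx P₀
  obtain ⟨t₁⟩ := QCohLocal.nonempty_LTensorCx_iso P hK
  obtain ⟨t₂⟩ := QCohLocal.nonempty_LTensorCx_iso P₀ hK
  obtain ⟨c⟩ := QCohLocal.nonempty_tensor_iso hK eP
  have hE : DCoh.IsPerfect ((DCoh.LTensorCx P).obj ((DCoh.Lpull (pullback.fst a b)).obj F)) := by
    refine Perfect.Triangle.isPerfect_of_iso
      ((DCoh.LTensorCx P₀).mapIso eK.symm ≪≫ (DCoh.LTensorCx P₀).mapIso eK ≪≫
        (DCoh.LTensorCx P₀).mapIso eK.symm ≪≫ t₂ ≪≫ c ≪≫ t₁.symm ≪≫ (DCoh.LTensorCx P).mapIso eK) ?_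
    exact Perfect.Tensor.isPerfect_LTensorCx P₀ hP₀ (Perfect.Triangle.isPerfect_of_iso eP.symm hP)
      (Perfect.Pullback.isPerfect_Lpull _ hF)
  obtain ⟨lo, hi, hge, hle⟩ := Perfect.Coherent.bounded_of_isPerfect hE
  haveI := hge
  haveI := hle
  obtain ⟨h1, h2, hi', h3⟩ := Groth.Agent.S1001.result (pullback.snd a b) _ lo hi
    (Perfect.Coherent.isCohD_of_isPerfect hE) (fun i => by
      haveI : SheafOfModules.IsFiniteType (R := (pullback a b).ringCatSheaf)
          (DCoh.HD ((DCoh.LTensorCx P).obj ((DCoh.Lpull (pullback.fst a b)).obj F)) i) :=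
        (Perfect.Coherent.isCohD_of_isPerfect hE i).2
      exact ⟨Modules.Support.isClosed_support _, inferInstance⟩)
  exact ⟨lo, hi', h2, h3, h1⟩

end Groth.Agent.H56.FMKHyper
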